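import Groth.Agent.ProjPt.Poly
import Mathlib.RingTheory.MvPolynomial.Ideal

/-!
# Coordinates on projective space over the integers
-/

universe u

open AlgebraicGeometry HomogeneousLocalization CategoryTheory CategoryTheory.Limits MvPolynomial

namespace Groth.Agent.SegreX

open Groth.Agent.ProjPt


/-- The map from the integers. -/
noncomputable def z0 (C : Type u) [CommRing C] : (ULift.{u} ℤ) →+* C :=
  (Int.castRingHom C).comp ULift.ringEquiv.toRingHom

lemma z0_eq {C : Type u} [CommRing C] (f : (ULift.{u} ℤ) →+* C) : f = z0 C := by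
  rw [z0, ← RingHom.ext_int (f.comp (ULift.ringEquiv (R := ℤ)).symm.toRingHom) (Int.castRingHom C)]
  ext x
  rfl

variable {n : ℕ} {W W' : Scheme.{u}}

/-- The point with coordinates `s`, in the chart where `s k` is a unit. -/
noncomputable def ptS (s : Fin (n + 1) → Γ(W, ⊤)) (k : Fin (n + 1)) (hs : IsUnit (s k)) :
    W ⟶ CohB1.ProjSpace n (ULift.{u} ℤ) :=
  pt (CohB1.polyGrading n (ULift.{u} ℤ)) (eval₂Hom (z0 _) s) (X_mem k) one_pos (by rwa [eval₂Hom_X'])

lemma comp_ptS (g : W' ⟶ W) (s : Fin (n + 1) → Γ(W, ⊤)) (k : Fin (n + 1)) (hs : IsUnit (s k)) :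
    g ≫ ptS s k hs = ptS (fun l ↦ g.appTop (s l)) k (hs.map g.appTop.hom) := by
  refine (comp_pt (CohB1.polyGrading n (ULift.{u} ℤ)) g _ (X_mem k) one_pos (by rwa [eval₂Hom_X'])).trans ?_
  refine pt_congr (CohB1.polyGrading n (ULift.{u} ℤ)) _ _ ?_ _ _ _ _
  rw [comp_eval₂Hom, z0_eq (g.appTop.hom.comp (z0 _))]

lemma ptS_scale (s s' : Fin (n + 1) → Γ(W, ⊤)) (c : Γ(W, ⊤)) (h : ∀ l, s' l = c * s l)
    (i j : Fin (n + 1)) (hi : IsUnit (s i)) (hj : IsUnit (s' j)) :
    ptS s' j hj = ptS s i hi :=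
  pt_scale_eval (z0 _) s s' c h i j _ _

lemma ptS_preimage (s : Fin (n + 1) → Γ(W, ⊤)) (k : Fin (n + 1)) (hs : IsUnit (s k))
    (l : Fin (n + 1)) :
    ptS s k hs ⁻¹ᵁ Proj.basicOpen (CohB1.polyGrading n (ULift.{u} ℤ)) (X l) = W.basicOpen (s l) := by
  refine (pt_preimage_basicOpen (CohB1.polyGrading n (ULift.{u} ℤ)) _ (X_mem k) one_pos _ (X_mem l) one_pos).trans ?_
  rw [eval₂Hom_X']

/-- The coordinates of a morphism into a chart. -/
noncomputable def coords {i : Fin (n + 1)}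
    (q : W ⟶ Spec (CommRingCat.of (Away (CohB1.polyGrading n (ULift.{u} ℤ)) (X i)))) (k : Fin (n + 1)) : Γ(W, ⊤) :=
  ((Scheme.ΓSpecIso (CommRingCat.of (Away (CohB1.polyGrading n (ULift.{u} ℤ)) (X i)))).inv ≫ q.appTop).hom (crd i k)

lemma coords_self {i : Fin (n + 1)} (q : W ⟶ Spec (CommRingCat.of (Away (CohB1.polyGrading n (ULift.{u} ℤ)) (X i)))) :
    coords q i = 1 := by
  rw [coords, crd_self, map_one]

lemma coords_comp {i : Fin (n + 1)} (g : W' ⟶ W)
    (q : W ⟶ Spec (CommRingCat.of (Away (CohB1.polyGrading n (ULift.{u} ℤ)) (X i)))) (k : Fin (n + 1)) :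
    coords (g ≫ q) k = g.appTop (coords q k) :=
  rfl

lemma chart_eq_ptS {i : Fin (n + 1)} (q : W ⟶ Spec (CommRingCat.of (Away (CohB1.polyGrading n (ULift.{u} ℤ)) (X i)))) :
    q ≫ Proj.awayι (CohB1.polyGrading n (ULift.{u} ℤ)) (X i) (X_mem i) one_pos =
      ptS (coords q) i (coords_self q ▸ isUnit_one) := by
  let u := ((Scheme.ΓSpecIso (CommRingCat.of (Away (CohB1.polyGrading n (ULift.{u} ℤ)) (X i)))).inv ≫ q.appTop).hom
  have hz : z0 Γ(W, ⊤) = u.comp (cst i) := (z0_eq _).symm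
  have hu : IsUnit (eval₂Hom (u.comp (cst i)) (fun k ↦ u (crd i k)) (X i)) := by
    rw [eval₂Hom_X', crd_self, map_one]; exact isUnit_one
  conv_lhs => rw [eq_toSpecΓ q]
  rw [ptS, pt, Category.assoc]
  congr 3
  apply CommRingCat.hom_ext
  refine (eq_coordHom i u hu).trans ?_
  simp only [hz]
  rfl

lemma coords_basicOpen {i : Fin (n + 1)} (q : W ⟶ Spec (CommRingCat.of (Away (CohB1.polyGrading n (ULift.{u} ℤ)) (X i))))
    (k : Fin (n + 1)) :
    (q ≫ Proj.awayι (CohB1.polyGrading n (ULift.{u} ℤ)) (X i) (X_mem i) one_pos) ⁻¹ᵁ Proj.basicOpen (CohB1.polyGrading n (ULift.{u} ℤ)) (X k) =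
      W.basicOpen (coords q k) := by
  rw [chart_eq_ptS]
  exact ptS_preimage _ _ _ _

/-- Two charts with the same point have proportional coordinates. -/
lemma exists_unit_coords {i i' : Fin (n + 1)}
    (p : W ⟶ Spec (CommRingCat.of (Away (CohB1.polyGrading n (ULift.{u} ℤ)) (X i))))
    (q : W ⟶ Spec (CommRingCat.of (Away (CohB1.polyGrading n (ULift.{u} ℤ)) (X i'))))
    (h : p ≫ Proj.awayι (CohB1.polyGrading n (ULift.{u} ℤ)) (X i) (X_mem i) one_pos =
      q ≫ Proj.awayι (CohB1.polyGrading n (ULift.{u} ℤ)) (X i') (X_mem i') one_pos) :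
    ∃ c : Γ(W, ⊤), IsUnit c ∧ ∀ k, coords q k = c * coords p k := by
  obtain ⟨c, hc, hk⟩ := exists_unit_of_agree (CohB1.polyGrading n (ULift.{u} ℤ)) (X_mem i) (X_mem i') p q h _ _
    (eq_toSpecΓ p) (eq_toSpecΓ q)
  exact ⟨c, hc, fun k ↦ hk _ (X_mem k)⟩

lemma irrelevant_le_span (n : ℕ) (R : Type u) [CommRing R] :
    (HomogeneousIdeal.irrelevant (CohB1.polyGrading n R)).toIdeal ≤ Ideal.span (Set.range X) := by
  intro a ha
  rw [← Set.image_univ, mem_ideal_span_X_image]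
  intro m hm
  by_contra! h
  have hm0 : m = 0 := by
    ext k
    exact h k (Set.mem_univ k)
  subst hm0
  replace ha : GradedRing.proj (CohB1.polyGrading n R) 0 a = 0 := ha
  have : homogeneousComponent 0 a = 0 := by
    rw [GradedRing.proj_apply] at ha
    exact (MvPolynomial.decomposition.decompose'_apply a 0).symm.trans ha
  rw [homogeneousComponent_zero, C_eq_zero] at this
  exact mem_support_iff.mp hm this

end Groth.Agent.SegreX
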