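import Groth.Agent.SegreX.Coord
import Mathlib.AlgebraicGeometry.PullbackCarrier
import Mathlib.AlgebraicGeometry.Morphisms.ClosedImmersion

/-!
# The Segre embedding over the integers
-/

universe u

open AlgebraicGeometry HomogeneousLocalization CategoryTheory CategoryTheory.Limits MvPolynomial

namespace Groth.Agent.SegreX

open Groth.Agent.ProjPt

/-- Projective space over the integers. -/
noncomputable abbrev PZ (n : ℕ) : Scheme.{u} := CohB1.ProjSpace n (ULift.{u} ℤ)

/-- The ring of a chart. -/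
noncomputable abbrev chartRing (n : ℕ) (i : Fin (n + 1)) : CommRingCat.{u} :=
  CommRingCat.of (Away (CohB1.polyGrading n (ULift.{u} ℤ)) (X i))

/-- The chart. -/
noncomputable abbrev chart (n : ℕ) (i : Fin (n + 1)) : Spec (chartRing.{u} n i) ⟶ PZ.{u} n :=
  Proj.awayι (CohB1.polyGrading n (ULift.{u} ℤ)) (X i) (X_mem i) one_pos

instance (n : ℕ) (i : Fin (n + 1)) : IsOpenImmersion (chart.{u} n i) :=
  inferInstanceAs (IsOpenImmersion
    (Proj.awayι (CohB1.polyGrading n (ULift.{u} ℤ)) (X i) (X_mem i) one_pos))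

lemma range_chart (n : ℕ) (i : Fin (n + 1)) :
    Set.range (chart.{u} n i) =
      SetLike.coe (Proj.basicOpen (CohB1.polyGrading n (ULift.{u} ℤ)) (X i)) :=
  congrArg SetLike.coe (Proj.opensRange_awayι (CohB1.polyGrading n (ULift.{u} ℤ)) (X i) (X_mem i) one_pos)

lemma exists_mem_chart {n : ℕ} (x : PZ.{u} n) : ∃ i, x ∈ Set.range (chart.{u} n i) := by
  have h := (Proj.iSup_basicOpen_eq_top (CohB1.polyGrading n (ULift.{u} ℤ)) _
    (irrelevant_le_span n (ULift.{u} ℤ))).ge (Set.mem_univ x)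
  obtain ⟨i, hi⟩ := TopologicalSpace.Opens.mem_iSup.mp h
  exact ⟨i, (range_chart n i).ge hi⟩

variable (n m : ℕ)

/-- The product of two projective spaces. -/
noncomputable abbrev PP : Scheme.{u} :=
  pullback (specULiftZIsTerminal.from (PZ.{u} n)) (specULiftZIsTerminal.from (PZ.{u} m))

variable {n m} (e : Fin (n * m + n + m + 1) ≃ Fin (n + 1) × Fin (m + 1))

/-- The product chart. -/
noncomputable abbrev chart2 (ij : Fin (n + 1) × Fin (m + 1)) :
    pullback (specULiftZIsTerminal.from (Spec (chartRing.{u} n ij.1)))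
      (specULiftZIsTerminal.from (Spec (chartRing.{u} m ij.2))) ⟶ PP.{u} n m :=
  pullback.map _ _ _ _ (chart n ij.1) (chart m ij.2) (𝟙 _)
    (specULiftZIsTerminal.hom_ext _ _) (specULiftZIsTerminal.hom_ext _ _)

lemma isOpenImmersion_chart2 (ij : Fin (n + 1) × Fin (m + 1)) :
    IsOpenImmersion (chart2.{u} ij) :=
  Scheme.pullback_map_isOpenImmersion ..

lemma range_chart2 (ij : Fin (n + 1) × Fin (m + 1)) :
    Set.range (chart2.{u} ij) =
      pullback.fst (specULiftZIsTerminal.from (PZ.{u} n)) (specULiftZIsTerminal.from (PZ.{u} m)) ⁻¹'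
        Set.range (chart.{u} n ij.1) ∩
      pullback.snd (specULiftZIsTerminal.from (PZ.{u} n)) (specULiftZIsTerminal.from (PZ.{u} m)) ⁻¹'
        Set.range (chart.{u} m ij.2) :=
  Scheme.Pullback.range_map ..

/-- The cover by product charts. -/
noncomputable def cover : (PP.{u} n m).OpenCover where
  I₀ := ULift.{u} (Fin (n + 1) × Fin (m + 1))
  X ij := pullback (specULiftZIsTerminal.from (Spec (chartRing.{u} n ij.down.1)))
      (specULiftZIsTerminal.from (Spec (chartRing.{u} m ij.down.2)))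
  f ij := chart2 ij.down
  mem₀ := by
    rw [Scheme.ofArrows_mem_precoverage_iff]
    refine ⟨fun z ↦ ?_, fun ij ↦ isOpenImmersion_chart2 ij.down⟩
    obtain ⟨i, hi⟩ := exists_mem_chart (pullback.fst (specULiftZIsTerminal.from (PZ.{u} n))
      (specULiftZIsTerminal.from (PZ.{u} m)) z)
    obtain ⟨j, hj⟩ := exists_mem_chart (pullback.snd (specULiftZIsTerminal.from (PZ.{u} n))
      (specULiftZIsTerminal.from (PZ.{u} m)) z)
    exact ⟨⟨(i, j)⟩, (range_chart2 (i, j)).ge ⟨hi, hj⟩⟩

/-- The products of coordinates. -/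
noncomputable def prodCoords {W : Scheme.{u}} {i : Fin (n + 1)} {j : Fin (m + 1)}
    (p : W ⟶ Spec (chartRing.{u} n i)) (q : W ⟶ Spec (chartRing.{u} m j))
    (k : Fin (n * m + n + m + 1)) : Γ(W, ⊤) :=
  coords p (e k).1 * coords q (e k).2

lemma prodCoords_self {W : Scheme.{u}} {i : Fin (n + 1)} {j : Fin (m + 1)}
    (p : W ⟶ Spec (chartRing.{u} n i)) (q : W ⟶ Spec (chartRing.{u} m j)) :
    prodCoords e p q (e.symm (i, j)) = 1 := by
  rw [prodCoords, Equiv.apply_symm_apply, coords_self, coords_self, mul_one]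

/-- The Segre map on a product chart. -/
noncomputable def loc {W : Scheme.{u}} {i : Fin (n + 1)} {j : Fin (m + 1)}
    (p : W ⟶ Spec (chartRing.{u} n i)) (q : W ⟶ Spec (chartRing.{u} m j)) :
    W ⟶ PZ.{u} (n * m + n + m) :=
  ptS (prodCoords e p q) (e.symm (i, j)) (prodCoords_self e p q ▸ isUnit_one)

lemma comp_loc {W W' : Scheme.{u}} (g : W' ⟶ W) {i : Fin (n + 1)} {j : Fin (m + 1)}
    (p : W ⟶ Spec (chartRing.{u} n i)) (q : W ⟶ Spec (chartRing.{u} m j)) :
    g ≫ loc e p q = loc e (g ≫ p) (g ≫ q) := by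
  rw [loc, comp_ptS, loc]
  congr 1
  funext k
  rw [prodCoords, prodCoords, map_mul, coords_comp, coords_comp]

lemma loc_eq {W : Scheme.{u}} {i i' : Fin (n + 1)} {j j' : Fin (m + 1)}
    (p : W ⟶ Spec (chartRing.{u} n i)) (q : W ⟶ Spec (chartRing.{u} m j))
    (p' : W ⟶ Spec (chartRing.{u} n i')) (q' : W ⟶ Spec (chartRing.{u} m j'))
    (hp : p ≫ chart n i = p' ≫ chart n i') (hq : q ≫ chart m j = q' ≫ chart m j') :
    loc e p q = loc e p' q' := by
  obtain ⟨c, -, hc⟩ := exists_unit_coords p p' hp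
  obtain ⟨d, -, hd⟩ := exists_unit_coords q q' hq
  refine (ptS_scale _ _ (c * d) (fun k ↦ ?_) _ _ _ _).symm
  rw [prodCoords, prodCoords, hc, hd]
  ring

lemma loc_compat {T : Scheme.{u}} (a b : Fin (n + 1) × Fin (m + 1))
    (f : T ⟶ pullback (specULiftZIsTerminal.from (Spec (chartRing.{u} n a.1)))
      (specULiftZIsTerminal.from (Spec (chartRing.{u} m a.2))))
    (g : T ⟶ pullback (specULiftZIsTerminal.from (Spec (chartRing.{u} n b.1)))
      (specULiftZIsTerminal.from (Spec (chartRing.{u} m b.2))))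
    (h : f ≫ chart2 a = g ≫ chart2 b) :
    f ≫ loc e (pullback.fst _ _) (pullback.snd _ _) =
      g ≫ loc e (pullback.fst _ _) (pullback.snd _ _) := by
  have h1 := h =≫ pullback.fst _ _
  have h2 := h =≫ pullback.snd _ _
  simp only [Category.assoc, pullback.lift_fst, pullback.lift_snd] at h1 h2
  rw [comp_loc, comp_loc]
  exact loc_eq e _ _ _ _ (by simpa only [Category.assoc] using h1)
    (by simpa only [Category.assoc] using h2)

/-- The Segre morphism. -/
noncomputable def segre : PP.{u} n m ⟶ PZ.{u} (n * m + n + m) :=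
  cover.glueMorphisms (fun ij ↦ loc e (pullback.fst _ _) (pullback.snd _ _)) fun a b ↦
    loc_compat e a.down b.down _ _ pullback.condition

lemma chart2_segre (ij : Fin (n + 1) × Fin (m + 1)) :
    chart2 ij ≫ segre.{u} e = loc e (pullback.fst _ _) (pullback.snd _ _) :=
  Scheme.Cover.ι_glueMorphisms cover _ _ ⟨ij⟩

lemma segre_preimage (ij : Fin (n + 1) × Fin (m + 1)) :
    segre.{u} e ⁻¹ᵁ Proj.basicOpen (CohB1.polyGrading (n * m + n + m) (ULift.{u} ℤ)) (X (e.symm ij)) =
      (chart2.{u} ij).opensRange := by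
  apply SetLike.coe_injective
  ext z
  obtain ⟨⟨b⟩, w, rfl⟩ := cover.exists_eq z
  have key : chart2 b w ∈ segre.{u} e ⁻¹ᵁ
      Proj.basicOpen (CohB1.polyGrading (n * m + n + m) (ULift.{u} ℤ)) (X (e.symm ij)) ↔
      chart2 b w ∈ Set.range (chart2.{u} ij) := by
    rw [range_chart2, Set.mem_inter_iff, Set.mem_preimage, Set.mem_preimage, range_chart,
      range_chart]
    let O0 : (PZ.{u} (n * m + n + m)).Opens :=
      Proj.basicOpen (CohB1.polyGrading (n * m + n + m) (ULift.{u} ℤ)) (X (e.symm ij))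
    let O1 : (PZ.{u} n).Opens := Proj.basicOpen (CohB1.polyGrading n (ULift.{u} ℤ)) (X ij.1)
    let O2 : (PZ.{u} m).Opens := Proj.basicOpen (CohB1.polyGrading m (ULift.{u} ℤ)) (X ij.2)
    show chart2 b w ∈ segre.{u} e ⁻¹ᵁ O0 ↔
      chart2 b w ∈ (pullback.fst (specULiftZIsTerminal.from (PZ.{u} n)) (specULiftZIsTerminal.from (PZ.{u} m))) ⁻¹ᵁ O1 ∧ chart2 b w ∈ (pullback.snd (specULiftZIsTerminal.from (PZ.{u} n)) (specULiftZIsTerminal.from (PZ.{u} m))) ⁻¹ᵁ O2
    show w ∈ chart2 b ⁻¹ᵁ segre.{u} e ⁻¹ᵁ O0 ↔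
      w ∈ chart2 b ⁻¹ᵁ (pullback.fst (specULiftZIsTerminal.from (PZ.{u} n)) (specULiftZIsTerminal.from (PZ.{u} m))) ⁻¹ᵁ O1 ∧ w ∈ chart2 b ⁻¹ᵁ (pullback.snd (specULiftZIsTerminal.from (PZ.{u} n)) (specULiftZIsTerminal.from (PZ.{u} m))) ⁻¹ᵁ O2
    rw [← Scheme.Hom.comp_preimage, ← Scheme.Hom.comp_preimage, ← Scheme.Hom.comp_preimage,
      chart2_segre, pullback.lift_fst, pullback.lift_snd]
    erw [ptS_preimage, coords_basicOpen, coords_basicOpen]
    rw [prodCoords, Scheme.basicOpen_mul, Equiv.apply_symm_apply]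
    rfl
  exact key

lemma isClosedImmersion_loc (ij : Fin (n + 1) × Fin (m + 1)) :
    ∃ r : pullback (specULiftZIsTerminal.from (Spec (chartRing.{u} n ij.1)))
      (specULiftZIsTerminal.from (Spec (chartRing.{u} m ij.2))) ⟶
        Spec (chartRing.{u} (n * m + n + m) (e.symm ij)),
      IsClosedImmersion r ∧ r ≫ chart _ (e.symm ij) = chart2 ij ≫ segre e := by
  let k0 := e.symm ij
  let p := pullback.fst (specULiftZIsTerminal.from (Spec (chartRing.{u} n ij.1)))
    (specULiftZIsTerminal.from (Spec (chartRing.{u} m ij.2)))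
  let q := pullback.snd (specULiftZIsTerminal.from (Spec (chartRing.{u} n ij.1)))
    (specULiftZIsTerminal.from (Spec (chartRing.{u} m ij.2)))
  let s := prodCoords e p q
  have hs1 : s k0 = 1 := prodCoords_self e p q
  have hs : IsUnit (eval₂Hom (z0 _) s (X k0)) := by rw [eval₂Hom_X', hs1]; exact isUnit_one
  let w : chartRing.{u} (n * m + n + m) k0 ⟶ Γ(_, ⊤) :=
    CommRingCat.ofHom (coordHom (CohB1.polyGrading (n * m + n + m) (ULift.{u} ℤ))
      (eval₂Hom (z0 _) s) hs)
  let r := Scheme.toSpecΓ _ ≫ Spec.map w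
  refine ⟨r, ?_, ?_⟩
  swap
  · rw [chart2_segre, loc, ptS, pt, Category.assoc]
    rfl
  have hk1 : (crd k0 k0 : chartRing.{u} (n * m + n + m) k0) = 1 := crd_self k0
  let vA : Fin (n + 1) → chartRing.{u} (n * m + n + m) k0 := fun a ↦ crd k0 (e.symm (a, ij.2))
  have hA : IsUnit (eval₂Hom (cst k0) vA (X ij.1)) := by
    rw [eval₂Hom_X']; exact (congrArg IsUnit hk1).mpr isUnit_one
  let vB : Fin (m + 1) → chartRing.{u} (n * m + n + m) k0 := fun b ↦ crd k0 (e.symm (ij.1, b))
  have hB : IsUnit (eval₂Hom (cst k0) vB (X ij.2)) := by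
    rw [eval₂Hom_X']; exact (congrArg IsUnit hk1).mpr isUnit_one
  let σA : chartRing.{u} n ij.1 ⟶ chartRing.{u} (n * m + n + m) k0 :=
    CommRingCat.ofHom (coordHom (CohB1.polyGrading n (ULift.{u} ℤ)) (eval₂Hom (cst k0) vA) hA)
  let σB : chartRing.{u} m ij.2 ⟶ chartRing.{u} (n * m + n + m) k0 :=
    CommRingCat.ofHom (coordHom (CohB1.polyGrading m (ULift.{u} ℤ)) (eval₂Hom (cst k0) vB) hB)
  let back : Spec (chartRing.{u} (n * m + n + m) k0) ⟶
      pullback (specULiftZIsTerminal.from (Spec (chartRing.{u} n ij.1)))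
        (specULiftZIsTerminal.from (Spec (chartRing.{u} m ij.2))) :=
    pullback.lift (Spec.map σA) (Spec.map σB) (specULiftZIsTerminal.hom_ext _ _)
  have hrb : r ≫ back = 𝟙 _ := by
    refine pullback.hom_ext ?_ ?_
    · rw [Category.assoc, pullback.lift_fst, Category.id_comp, Category.assoc, ← Spec.map_comp,
        eq_toSpecΓ (pullback.fst (specULiftZIsTerminal.from (Spec (chartRing.{u} n ij.1)))
          (specULiftZIsTerminal.from (Spec (chartRing.{u} m ij.2))))]
      congr 2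
      apply CommRingCat.hom_ext
      refine away_ext _ _ _ ((z0_eq _).trans (z0_eq _).symm) fun a ↦ ?_
      change w.hom (coordHom _ (eval₂Hom (cst k0) vA) hA (crd ij.1 a)) = coords p a
      have h1 : eval₂Hom (cst k0) vA (X ij.1) = 1 := by
        rw [eval₂Hom_X']; exact crd_self k0
      rw [coordHom_crd _ _ _ h1, eval₂Hom_X']
      change coordHom _ _ hs (crd k0 (e.symm (a, ij.2))) = coords p a
      rw [coordHom_crd _ _ _ (by rw [eval₂Hom_X', hs1]), eval₂Hom_X']
      change prodCoords e p q _ = _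
      rw [prodCoords, Equiv.apply_symm_apply, coords_self q, mul_one]
    · rw [Category.assoc, pullback.lift_snd, Category.id_comp, Category.assoc, ← Spec.map_comp,
        eq_toSpecΓ (pullback.snd (specULiftZIsTerminal.from (Spec (chartRing.{u} n ij.1)))
          (specULiftZIsTerminal.from (Spec (chartRing.{u} m ij.2))))]
      congr 2
      apply CommRingCat.hom_ext
      refine away_ext _ _ _ ((z0_eq _).trans (z0_eq _).symm) fun b ↦ ?_
      change w.hom (coordHom _ (eval₂Hom (cst k0) vB) hB (crd ij.2 b)) = coords q b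
      have h1 : eval₂Hom (cst k0) vB (X ij.2) = 1 := by
        rw [eval₂Hom_X']; exact crd_self k0
      rw [coordHom_crd _ _ _ h1, eval₂Hom_X']
      change coordHom _ _ hs (crd k0 (e.symm (ij.1, b))) = coords q b
      rw [coordHom_crd _ _ _ (by rw [eval₂Hom_X', hs1]), eval₂Hom_X']
      change prodCoords e p q _ = _
      rw [prodCoords, Equiv.apply_symm_apply, coords_self p, one_mul]
  have : IsClosedImmersion (r ≫ back) := by rw [hrb]; infer_instance
  exact IsClosedImmersion.of_comp r back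

/-- The Segre morphism is a closed immersion. -/
theorem isClosedImmersion_segre : IsClosedImmersion (segre.{u} e) := by
  refine IsZariskiLocalAtTarget.of_openCover (Proj.affineOpenCoverOfIrrelevantLESpan
    (CohB1.polyGrading (n * m + n + m) (ULift.{u} ℤ)) _ (fun k ↦ X_mem k) (fun _ ↦ one_pos)
    (irrelevant_le_span _ _)).openCover fun k ↦ ?_
  obtain ⟨ij, rfl⟩ : ∃ ij, e.symm ij = k := ⟨e k, e.symm_apply_apply k⟩
  obtain ⟨r, hr, hr'⟩ := isClosedImmersion_loc.{u} e ij
  have sq : IsPullback r (chart2 ij) (chart _ (e.symm ij)) (segre e) := by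
    refine IsOpenImmersion.isPullback _ _ _ _ hr'.symm ?_
    have hh : (chart.{u} _ (e.symm ij)).opensRange =
        Proj.basicOpen (CohB1.polyGrading (n * m + n + m) (ULift.{u} ℤ)) (X (e.symm ij)) :=
      Proj.opensRange_awayι _ _ (X_mem _) one_pos
    rw [hh, segre_preimage]
  change IsClosedImmersion (pullback.snd (segre e) (chart _ (e.symm ij)))
  rw [← sq.flip.isoPullback_inv_snd]
  exact (MorphismProperty.cancel_left_of_respectsIso @IsClosedImmersion _ _).mpr hr

end Groth.Agent.SegreX
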